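import Cfsg.Agent.ThCert.Cert

/-! Evaluation of generated data. -/

set_option autoImplicit false
set_option Elab.async false
set_option maxRecDepth 100000

namespace CfsgLib.ThCert

open CfsgLib.CosetEnum

theorem facts14_0 : allR okFact 6 3584 = true := by decide +kernel

theorem facts14_1 : allR okFact 6 3648 = true := by decide +kernel

theorem facts14_2 : allR okFact 6 3712 = true := by decide +kernel

theorem facts14_3 : allR okFact 6 3776 = true := by decide +kernel

end CfsgLib.ThCert
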