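import Cfsg.Agent.ThCert.Cert

/-! Evaluation of generated data. -/

set_option autoImplicit false
set_option Elab.async false
set_option maxRecDepth 100000

namespace CfsgLib.ThCert

open CfsgLib.CosetEnum

theorem orb0 : okOrb cert clo 0 = true := by decide +kernel

theorem tree0 : allR (okTree uPairs cert clo tW 0) 10 0 = true := by decide +kernel

theorem orb1 : okOrb cert clo 1 = true := by decide +kernel

theorem tree1 : allR (okTree uPairs cert clo tW 1) 10 0 = true := by decide +kernel

theorem orb2 : okOrb cert clo 2 = true := by decide +kernel

theorem tree2 : allR (okTree uPairs cert clo tW 2) 10 0 = true := by decide +kernel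

theorem orb3 : okOrb cert clo 3 = true := by decide +kernel

theorem tree3 : allR (okTree uPairs cert clo tW 3) 10 0 = true := by decide +kernel

theorem orb4 : okOrb cert clo 4 = true := by decide +kernel

theorem tree4 : allR (okTree uPairs cert clo tW 4) 10 0 = true := by decide +kernel

theorem orb5 : okOrb cert clo 5 = true := by decide +kernel

theorem tree5 : allR (okTree uPairs cert clo tW 5) 10 0 = true := by decide +kernel

theorem orb6 : okOrb cert clo 6 = true := by decide +kernel

theorem tree6 : allR (okTree uPairs cert clo tW 6) 10 0 = true := by decide +kernel

theorem orb7 : okOrb cert clo 7 = true := by decide +kernel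

theorem tree7 : allR (okTree uPairs cert clo tW 7) 10 0 = true := by decide +kernel

theorem orb8 : okOrb cert clo 8 = true := by decide +kernel

theorem tree8 : allR (okTree uPairs cert clo tW 8) 10 0 = true := by decide +kernel

theorem orb9 : okOrb cert clo 9 = true := by decide +kernel

theorem tree9 : allR (okTree uPairs cert clo tW 9) 10 0 = true := by decide +kernel

theorem orb10 : okOrb cert clo 10 = true := by decide +kernel

theorem tree10 : allR (okTree uPairs cert clo tW 10) 10 0 = true := by decide +kernel

end CfsgLib.ThCert
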