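import Cfsg.Agent.ThCert.Cert

/-! Evaluation of generated data. -/

set_option autoImplicit false
set_option Elab.async false
set_option maxRecDepth 100000

namespace CfsgLib.ThCert

open CfsgLib.CosetEnum

theorem paths6_0 : allR (okPathAt 6) 6 0 = true := by decide +kernel

theorem paths6_1 : allR (okPathAt 6) 6 64 = true := by decide +kernel

end CfsgLib.ThCert
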